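/-
Objects with a ring action in additive categories, their values under additive functors to abelian groups, and
the alternating sums of an additive invariant of the values of a homological functor with a natural endomorphism.
-/
import Groth.Agent.Sga4h.H925.Inv
import Mathlib.CategoryTheory.Triangulated.HomologicalFunctor
import Mathlib.CategoryTheory.Endomorphism
import Mathlib.CategoryTheory.Preadditive.AdditiveFunctor
import Mathlib.Algebra.Category.Grp.Abelian
import Mathlib.Algebra.Homology.ShortComplex.Ab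
import Mathlib.Algebra.Category.Grp.Zero
import Mathlib.LinearAlgebra.Dimension.Finite
import Mathlib.RingTheory.Noetherian.Basic

set_option autoImplicit false
set_option linter.dupNamespace false

universe w w' v v' v'' u u' u''

open CategoryTheory CategoryTheory.Limits CategoryTheory.Pretriangulated

namespace Groth.Agent.Sga4h.H14.ActVal

open Groth.Agent.Sga4h.H925.Inv

section Basic

variable {Λ : Type} [CommRing Λ]
variable {C : Type u} [Category.{v} C] [Preadditive C] {D : Type u'} [Category.{v'} D] [Preadditive D]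

/-- Transport of a ring action along an additive functor. -/
def mapAct (G : C ⥤ D) [G.Additive] {X : C} (ρ : Λ →+* End X) : Λ →+* End (G.obj X) where
  toFun r := G.map (ρ r)
  map_one' := by rw [map_one, End.one_def, G.map_id]; rfl
  map_mul' r s := by rw [map_mul, End.mul_def, G.map_comp]; rfl
  map_zero' := by rw [map_zero]; exact G.map_zero _ _
  map_add' r s := by rw [map_add]; exact G.map_add

/-- Equivariant morphisms. -/
def Equi {X Y : C} (ρ : Λ →+* End X) (ρ' : Λ →+* End Y) (f : X ⟶ Y) : Prop :=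
  ∀ r : Λ, (ρ r : X ⟶ X) ≫ f = f ≫ (ρ' r : Y ⟶ Y)

theorem Equi.map {X Y : C} {ρ : Λ →+* End X} {ρ' : Λ →+* End Y} {f : X ⟶ Y} (h : Equi ρ ρ' f)
    (G : C ⥤ D) [G.Additive] : Equi (mapAct G ρ) (mapAct G ρ') (G.map f) := by
  intro r
  change G.map (ρ r) ≫ G.map f = G.map f ≫ G.map (ρ' r)
  rw [← G.map_comp, ← G.map_comp, h r]

theorem Equi.comp {X Y Z : C} {ρ : Λ →+* End X} {ρ' : Λ →+* End Y} {ρ'' : Λ →+* End Z} {f : X ⟶ Y}
    {g : Y ⟶ Z} (h : Equi ρ ρ' f) (h' : Equi ρ' ρ'' g) : Equi ρ ρ'' (f ≫ g) := by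
  intro r
  rw [← Category.assoc, h r, Category.assoc, h' r, Category.assoc]

theorem Equi.inv {X Y : C} {ρ : Λ →+* End X} {ρ' : Λ →+* End Y} (e : X ≅ Y) (h : Equi ρ ρ' e.hom) :
    Equi ρ' ρ e.inv := by
  intro r
  rw [← cancel_epi e.hom, ← Category.assoc, ← h r, Category.assoc, e.hom_inv_id, Category.comp_id,
    e.hom_inv_id_assoc]

theorem equi_nat {G G' : C ⥤ D} [G.Additive] [G'.Additive] (e : G ⟶ G') {X : C} (ρ : Λ →+* End X) :
    Equi (mapAct G ρ) (mapAct G' ρ) (e.app X) := fun r => e.naturality (ρ r)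

/-- The value of a functor to abelian groups on an object with a ring action. -/
def Val (Ψ : C ⥤ AddCommGrpCat.{w}) {X : C} (_ : Λ →+* End X) : Type w := Ψ.obj X

variable (Ψ : C ⥤ AddCommGrpCat.{w}) {X : C} (ρ : Λ →+* End X)

instance : AddCommGroup (Val Ψ ρ) := inferInstanceAs (AddCommGroup (Ψ.obj X))

variable [Ψ.Additive]

instance : Module Λ (Val Ψ ρ) where
  smul r x := (Ψ.map (ρ r)).hom x
  one_smul x := by
    change (Ψ.map (ρ 1)).hom x = x
    rw [map_one, End.one_def, Ψ.map_id]; rfl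
  mul_smul r s x := by
    change (Ψ.map (ρ (r * s))).hom x = (Ψ.map (ρ r)).hom ((Ψ.map (ρ s)).hom x)
    rw [map_mul, End.mul_def, Ψ.map_comp]; rfl
  smul_zero r := map_zero (Ψ.map (ρ r)).hom
  smul_add r x y := map_add (Ψ.map (ρ r)).hom x y
  add_smul r s x := by
    change (Ψ.map (ρ (r + s))).hom x = (Ψ.map (ρ r)).hom x + (Ψ.map (ρ s)).hom x
    rw [map_add, Ψ.map_add]; rfl
  zero_smul x := by
    change (Ψ.map (ρ 0)).hom x = 0
    rw [map_zero]
    have : Ψ.map (0 : X ⟶ X) = 0 := Ψ.map_zero _ _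
    exact congrArg (fun t => t.hom x) this

theorem smul_val (r : Λ) (x : Val Ψ ρ) : r • x = (Ψ.map (ρ r)).hom x := rfl

variable {Ψ} {ρ}

/-- Maps induced by equivariant morphisms are linear. -/
def valMap {Y : C} {ρ' : Λ →+* End Y} {f : X ⟶ Y} (h : Equi ρ ρ' f) : Val Ψ ρ →ₗ[Λ] Val Ψ ρ' where
  toFun := (Ψ.map f).hom
  map_add' x y := map_add (Ψ.map f).hom x y
  map_smul' r x := by
    change (Ψ.map f).hom ((Ψ.map (ρ r)).hom x) = (Ψ.map (ρ' r)).hom ((Ψ.map f).hom x)
    have := congrArg (fun t => t.hom x) (congrArg Ψ.map (h r))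
    rw [Ψ.map_comp, Ψ.map_comp] at this
    exact this

theorem valMap_apply {Y : C} {ρ' : Λ →+* End Y} {f : X ⟶ Y} (h : Equi ρ ρ' f) (x : Val Ψ ρ) :
    valMap (Ψ := Ψ) h x = (Ψ.map f).hom x := rfl

variable (ρ)

/-- Maps induced by natural transformations are linear. -/
def valNat {Ψ Ψ' : C ⥤ AddCommGrpCat.{w}} [Ψ.Additive] [Ψ'.Additive] (F : Ψ ⟶ Ψ') : Val Ψ ρ →ₗ[Λ] Val Ψ' ρ where
  toFun := (F.app X).hom
  map_add' x y := map_add (F.app X).hom x y
  map_smul' r x := congrArg (fun t => t.hom x) (F.naturality (ρ r))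

theorem valNat_apply {Ψ Ψ' : C ⥤ AddCommGrpCat.{w}} [Ψ.Additive] [Ψ'.Additive] (F : Ψ ⟶ Ψ') (x : Val Ψ ρ) :
    valNat ρ F x = (F.app X).hom x := rfl

/-- Natural isomorphisms induce linear equivalences. -/
def valIso {Ψ Ψ' : C ⥤ AddCommGrpCat.{w}} [Ψ.Additive] [Ψ'.Additive] (e : Ψ ≅ Ψ') : Val Ψ ρ ≃ₗ[Λ] Val Ψ' ρ :=
  LinearEquiv.ofLinearMap (valNat ρ e.hom) (valNat ρ e.inv)
    (by ext x; exact congrArg (fun t => t.hom x) (e.inv_hom_id_app X))
    (by ext x; exact congrArg (fun t => t.hom x) (e.hom_inv_id_app X))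

theorem valIso_apply {Ψ Ψ' : C ⥤ AddCommGrpCat.{w}} [Ψ.Additive] [Ψ'.Additive] (e : Ψ ≅ Ψ') (x : Val Ψ ρ) :
    valIso ρ e x = (e.hom.app X).hom x := rfl

variable {ρ}

/-- Equivariant isomorphisms induce linear equivalences. -/
def valMapIso {Y : C} {ρ' : Λ →+* End Y} (e : X ≅ Y) (h : Equi ρ ρ' e.hom) : Val Ψ ρ ≃ₗ[Λ] Val Ψ ρ' :=
  LinearEquiv.ofLinearMap (valMap h) (valMap (Equi.inv e h))
    (by
      ext x
      change (Ψ.map e.hom).hom ((Ψ.map e.inv).hom x) = x
      have : Ψ.map e.inv ≫ Ψ.map e.hom = 𝟙 _ := by rw [← Ψ.map_comp, e.inv_hom_id, Ψ.map_id]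
      exact congrArg (fun t => t.hom x) this)
    (by
      ext x
      change (Ψ.map e.inv).hom ((Ψ.map e.hom).hom x) = x
      have : Ψ.map e.hom ≫ Ψ.map e.inv = 𝟙 _ := by rw [← Ψ.map_comp, e.hom_inv_id, Ψ.map_id]
      exact congrArg (fun t => t.hom x) this)

theorem valMapIso_apply {Y : C} {ρ' : Λ →+* End Y} (e : X ≅ Y) (h : Equi ρ ρ' e.hom) (x : Val Ψ ρ) :
    valMapIso (Ψ := Ψ) e h x = (Ψ.map e.hom).hom x := rfl

omit [Ψ.Additive] in
theorem subsingleton_val_of_isZero (h : IsZero (Ψ.obj X)) : Subsingleton (Val Ψ ρ) :=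
  AddCommGrpCat.subsingleton_of_isZero h

omit [Ψ.Additive] in
theorem isZero_of_subsingleton_val (h : Subsingleton (Val Ψ ρ)) : IsZero (Ψ.obj X) :=
  haveI : Subsingleton (Ψ.obj X) := h
  AddCommGrpCat.isZero_of_subsingleton _

end Basic

end Groth.Agent.Sga4h.H14.ActVal
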