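/-
Alternating sums `eu χ Ψ F ρ = Σ_{m ≥ 0} (-1)^m χ(Ψ(X⟦m⟧), F)` for a homological functor `Ψ` with a natural
endomorphism `F` and an object `X` with an action `ρ` of a field `Λ`: additivity on distinguished triangles, shift.
-/
import Groth.Agent.Sga4h.H14.ActVal

set_option autoImplicit false
set_option linter.dupNamespace false

universe w w' v v' v'' u u' u''

open CategoryTheory CategoryTheory.Limits CategoryTheory.Pretriangulated

namespace Groth.Agent.Sga4h.H14.ActEuler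

open Groth.Agent.Sga4h.H925.Inv ActVal

section Fin

variable {Λ : Type} [Field Λ]

theorem finite_of_exact {V₁ V₂ V₃ : Type w} [AddCommGroup V₁] [Module Λ V₁] [AddCommGroup V₂] [Module Λ V₂]
    [AddCommGroup V₃] [Module Λ V₃] [FiniteDimensional Λ V₁] [FiniteDimensional Λ V₃]
    (f : V₁ →ₗ[Λ] V₂) (g : V₂ →ₗ[Λ] V₃) (h : Function.Exact f g) : FiniteDimensional Λ V₂ := by
  have h1 : FiniteDimensional Λ (LinearMap.ker g) := by
    rw [h.linearMap_ker_eq]; infer_instance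
  have h2 : FiniteDimensional Λ (V₂ ⧸ LinearMap.ker g) :=
    Module.Finite.equiv (LinearMap.quotKerEquivRange g).symm
  exact Module.Finite.of_submodule_quotient (LinearMap.ker g)

theorem subsingleton_of_exact {V₁ V₂ V₃ : Type*} [AddCommGroup V₁] [Module Λ V₁] [AddCommGroup V₂] [Module Λ V₂]
    [AddCommGroup V₃] [Module Λ V₃] [Subsingleton V₁] [Subsingleton V₃]
    (f : V₁ →ₗ[Λ] V₂) (g : V₂ →ₗ[Λ] V₃) (h : Function.Exact f g) : Subsingleton V₂ := by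
  refine ⟨fun x y => ?_⟩
  have key : ∀ x : V₂, x = 0 := by
    intro x
    obtain ⟨y, rfl⟩ := (h x).1 (Subsingleton.elim _ _)
    rw [Subsingleton.elim y 0, map_zero]
  rw [key x, key y]

end Fin

variable {Λ : Type} [Field Λ] {A : Type w'} [AddCommGroup A] (χ : Inv.{w} Λ A)
variable {C : Type u} [Category.{v} C] [Preadditive C] [HasShift C ℤ] [∀ n : ℤ, (shiftFunctor C n).Additive]

/-- `X ↦ Ψ(X⟦a⟧)`. -/
def sh (Ψ : C ⥤ AddCommGrpCat.{w}) (a : ℤ) : C ⥤ AddCommGrpCat.{w} := shiftFunctor C a ⋙ Ψ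

instance (Ψ : C ⥤ AddCommGrpCat.{w}) [Ψ.Additive] (a : ℤ) : (sh Ψ a).Additive :=
  inferInstanceAs (shiftFunctor C a ⋙ Ψ).Additive

/-- The endomorphism of `sh Ψ a` induced by an endomorphism of `Ψ`. -/
def shF {Ψ : C ⥤ AddCommGrpCat.{w}} (F : Ψ ⟶ Ψ) (a : ℤ) : sh Ψ a ⟶ sh Ψ a :=
  Functor.whiskerLeft (shiftFunctor C a) F

variable {Ψ : C ⥤ AddCommGrpCat.{w}} [Ψ.Additive] (F : Ψ ⟶ Ψ)

/-- The alternating sum. -/
noncomputable def eu {X : C} (ρ : Λ →+* End X) : A :=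
  χ.alt (fun m : ℕ => Val (sh Ψ (m : ℤ)) ρ) (fun m => valNat ρ (shF F (m : ℤ)))

variable (Ψ) in
/-- The values of `Ψ` on the shifts of `X` vanish in negative degrees, are finite dimensional, and
vanish in large degrees. -/
structure Good {X : C} (ρ : Λ →+* End X) : Prop where
  neg : ∀ a : ℤ, a < 0 → Subsingleton (Val (sh Ψ a) ρ)
  fin : ∀ m : ℕ, FiniteDimensional Λ (Val (sh Ψ (m : ℤ)) ρ)
  van : ∃ M : ℕ, ∀ m : ℕ, M ≤ m → Subsingleton (Val (sh Ψ (m : ℤ)) ρ)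

section iso

variable {X Y : C} {ρ : Λ →+* End X} {ρ' : Λ →+* End Y}

theorem Good.of_iso (e : X ≅ Y) (h : Equi ρ ρ' e.hom) (g : Good Ψ ρ) : Good Ψ ρ' where
  neg a ha := by
    have := g.neg a ha
    exact (valMapIso (Ψ := sh Ψ a) e h).symm.toEquiv.subsingleton
  fin m := by
    have := g.fin m
    exact Module.Finite.equiv (valMapIso (Ψ := sh Ψ (m : ℤ)) e h)
  van := by
    obtain ⟨M, hM⟩ := g.van
    refine ⟨M, fun m hm => ?_⟩
    have := hM m hm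
    exact (valMapIso (Ψ := sh Ψ (m : ℤ)) e h).symm.toEquiv.subsingleton

theorem eu_of_iso (e : X ≅ Y) (h : Equi ρ ρ' e.hom) (g : Good Ψ ρ) : eu χ F ρ = eu χ F ρ' := by
  have g' := g.of_iso e h
  have := g'.fin
  refine χ.alt_congr _ _ (fun m => valMapIso (Ψ := sh Ψ (m : ℤ)) e h) (fun m x => ?_)
  exact (congrArg (fun t => t.hom x) ((shF F (m : ℤ)).naturality e.hom)).symm

end iso

section zero

variable {X : C} {ρ : Λ →+* End X}

theorem Good.of_isZero (h : IsZero X) : Good Ψ ρ where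
  neg a _ := subsingleton_val_of_isZero ((sh Ψ a).map_isZero h)
  fin m := by
    have : Subsingleton (Val (sh Ψ (m : ℤ)) ρ) := subsingleton_val_of_isZero ((sh Ψ (m : ℤ)).map_isZero h)
    infer_instance
  van := ⟨0, fun m _ => subsingleton_val_of_isZero ((sh Ψ (m : ℤ)).map_isZero h)⟩

theorem eu_of_isZero (h : IsZero X) : eu χ F ρ = 0 := by
  rw [eu, χ.alt_eq_sum _ _ 0 (fun m _ => subsingleton_val_of_isZero ((sh Ψ (m : ℤ)).map_isZero h))]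
  rfl

end zero

section shift

variable {X : C} {ρ : Λ →+* End X}

/-- `Ψ(X⟦1⟧⟦a⟧) ≅ Ψ(X⟦b⟧)`, `a + 1 = b`. -/
def shIso (Ψ : C ⥤ AddCommGrpCat.{w}) (a b : ℤ) (h : 1 + a = b) : shiftFunctor C (1 : ℤ) ⋙ sh Ψ a ≅ sh Ψ b :=
  Functor.isoWhiskerRight (shiftFunctorAdd' C 1 a b h).symm Ψ

/-- The value on a shift. -/
def valShift (Ψ : C ⥤ AddCommGrpCat.{w}) [Ψ.Additive] {X : C} (ρ : Λ →+* End X) (a b : ℤ) (h : 1 + a = b) :
    Val (sh Ψ a) (mapAct (shiftFunctor C (1 : ℤ)) ρ) ≃ₗ[Λ] Val (sh Ψ b) ρ :=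
  valIso (Ψ := shiftFunctor C (1 : ℤ) ⋙ sh Ψ a) (Ψ' := sh Ψ b) ρ (shIso Ψ a b h)

theorem valShift_shF (F : Ψ ⟶ Ψ) (a b : ℤ) (h : 1 + a = b)
    (x : Val (sh Ψ a) (mapAct (shiftFunctor C (1 : ℤ)) ρ)) :
    valShift Ψ ρ a b h (valNat _ (shF F a) x) = valNat ρ (shF F b) (valShift Ψ ρ a b h x) :=
  (congrArg (fun t => t.hom x) (F.naturality ((shiftFunctorAdd' C 1 a b h).inv.app X))).symm

theorem Good.of_shift (g : Good Ψ (mapAct (shiftFunctor C (1 : ℤ)) ρ)) : Good Ψ ρ ∧ Subsingleton (Val (sh Ψ 0) ρ) := by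
  have h0 : ∀ a : ℤ, a ≤ 0 → Subsingleton (Val (sh Ψ a) ρ) := by
    intro a ha
    have := g.neg (a - 1) (by lia)
    exact (valShift Ψ ρ (a - 1) a (by lia)).symm.toEquiv.subsingleton
  have h1 : ∀ m : ℕ, FiniteDimensional Λ (Val (sh Ψ (m : ℤ)) ρ) := by
    intro m
    rcases m with _ | m
    · have := h0 0 le_rfl
      exact inferInstanceAs (FiniteDimensional Λ (Val (sh Ψ 0) ρ))
    · have := g.fin m
      exact Module.Finite.equiv (valShift Ψ ρ (m : ℤ) ((m + 1 : ℕ) : ℤ) (by push_cast; ring))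
  refine ⟨⟨fun a ha => h0 a ha.le, h1, ?_⟩, h0 0 le_rfl⟩
  obtain ⟨M, hM⟩ := g.van
  refine ⟨M + 1, fun m hm => ?_⟩
  obtain ⟨m, rfl⟩ : ∃ n, m = n + 1 := ⟨m - 1, by lia⟩
  have := hM m (by lia)
  exact (valShift Ψ ρ (m : ℤ) ((m + 1 : ℕ) : ℤ) (by push_cast; ring)).symm.toEquiv.subsingleton

theorem eu_of_shift (g : Good Ψ (mapAct (shiftFunctor C (1 : ℤ)) ρ)) :
    eu χ F ρ = - eu χ F (mapAct (shiftFunctor C (1 : ℤ)) ρ) := by
  obtain ⟨g', h0⟩ := Good.of_shift g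
  obtain ⟨M, hM⟩ := g.van
  obtain ⟨M', hM'⟩ := g'.van
  have hfin := g'.fin
  rw [eu, eu, χ.alt_eq_sum _ _ (max M M' + 1) (fun m hm => hM' m (by lia)),
    χ.alt_eq_sum _ _ (max M M') (fun m hm => hM m (by lia)), Finset.sum_range_succ']
  have e0 : χ.val (Val (sh Ψ ((0 : ℕ) : ℤ)) ρ) (valNat ρ (shF F ((0 : ℕ) : ℤ))) = 0 := by
    have : Subsingleton (Val (sh Ψ ((0 : ℕ) : ℤ)) ρ) := h0
    exact χ.val_subsingleton _ _
  rw [e0, smul_zero, add_zero, ← Finset.sum_neg_distrib]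
  refine Finset.sum_congr rfl fun m _ => ?_
  have e : χ.val (Val (sh Ψ (m : ℤ)) (mapAct (shiftFunctor C (1 : ℤ)) ρ)) (valNat _ (shF F (m : ℤ))) =
      χ.val (Val (sh Ψ ((m + 1 : ℕ) : ℤ)) ρ) (valNat ρ (shF F ((m + 1 : ℕ) : ℤ))) :=
    χ.val_congr (valShift Ψ ρ (m : ℤ) ((m + 1 : ℕ) : ℤ) (by push_cast; ring)) _ _
      (fun x => valShift_shF F _ _ _ x)
  rw [e, pow_succ]
  simp

end shift

section triangle

variable [HasZeroObject C] [Pretriangulated C] [Ψ.IsHomological] {T : Triangle C} (hT : T ∈ distTriang C)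
  {ρ₁ : Λ →+* End T.obj₁} {ρ₂ : Λ →+* End T.obj₂} {ρ₃ : Λ →+* End T.obj₃}
  (h₁ : Equi ρ₁ ρ₂ T.mor₁) (h₂ : Equi ρ₂ ρ₃ T.mor₂) (h₃ : Equi ρ₃ (mapAct (shiftFunctor C (1 : ℤ)) ρ₁) T.mor₃)

/-- The connecting map. -/
def dl (a b : ℤ) (h : 1 + a = b) : Val (sh Ψ a) ρ₃ →ₗ[Λ] Val (sh Ψ b) ρ₁ :=
  (valShift Ψ ρ₁ a b h).toLinearMap ∘ₗ valMap (Ψ := sh Ψ a) h₃

omit [HasZeroObject C] [Pretriangulated C] [Ψ.IsHomological] in
theorem dl_shF (a b : ℤ) (h : 1 + a = b) (x : Val (sh Ψ a) ρ₃) :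
    dl h₃ a b h (valNat ρ₃ (shF F a) x) = valNat ρ₁ (shF F b) (dl h₃ a b h x) := by
  have e : valMap (Ψ := sh Ψ a) h₃ (valNat ρ₃ (shF F a) x) = valNat _ (shF F a) (valMap (Ψ := sh Ψ a) h₃ x) :=
    (congrArg (fun t => t.hom x) ((shF F a).naturality T.mor₃)).symm
  change valShift Ψ ρ₁ a b h (valMap (Ψ := sh Ψ a) h₃ (valNat ρ₃ (shF F a) x)) = _
  rw [e]
  exact valShift_shF F a b h _

include hT

theorem exact₂ (a : ℤ) : Function.Exact (valMap (Ψ := sh Ψ a) h₁) (valMap (Ψ := sh Ψ a) h₂) := by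
  let _ := Functor.ShiftSequence.tautological Ψ ℤ
  have := (ShortComplex.ab_exact_iff_function_exact _).1 (Ψ.homologySequence_exact₂ T hT a)
  exact this

theorem exact₃ (a b : ℤ) (h : 1 + a = b) : Function.Exact (valMap (Ψ := sh Ψ a) h₂) (dl (Ψ := Ψ) h₃ a b h) := by
  let _ := Functor.ShiftSequence.tautological Ψ ℤ
  have := (ShortComplex.ab_exact_iff_function_exact _).1 (Ψ.homologySequence_exact₃ T hT a b (by lia))
  exact this

theorem exact₁ (a b : ℤ) (h : 1 + a = b) : Function.Exact (dl (Ψ := Ψ) h₃ a b h) (valMap (Ψ := sh Ψ b) h₁) := by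
  let _ := Functor.ShiftSequence.tautological Ψ ℤ
  have := (ShortComplex.ab_exact_iff_function_exact _).1 (Ψ.homologySequence_exact₁ T hT a b (by lia))
  exact this

include h₁ h₂

theorem Good.middle (g₁ : Good Ψ ρ₁) (g₃ : Good Ψ ρ₃) : Good Ψ ρ₂ where
  neg a ha := by
    have := g₁.neg a ha
    have := g₃.neg a ha
    exact subsingleton_of_exact _ _ (exact₂ hT h₁ h₂ a)
  fin m := by
    have := g₁.fin m
    have := g₃.fin m
    exact finite_of_exact _ _ (exact₂ hT h₁ h₂ (m : ℤ))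
  van := by
    obtain ⟨M₁, hM₁⟩ := g₁.van
    obtain ⟨M₃, hM₃⟩ := g₃.van
    refine ⟨max M₁ M₃, fun m hm => ?_⟩
    have := hM₁ m (by lia)
    have := hM₃ m (by lia)
    exact subsingleton_of_exact _ _ (exact₂ hT h₁ h₂ (m : ℤ))

include h₃

theorem eu_triangle (g₁ : Good Ψ ρ₁) (g₃ : Good Ψ ρ₃) : eu χ F ρ₂ = eu χ F ρ₁ + eu χ F ρ₃ := by
  have g₂ := Good.middle hT h₁ h₂ g₁ g₃
  have f₁ := g₁.fin
  have f₂ := g₂.fin
  have f₃ := g₃.fin
  obtain ⟨M₁, hM₁⟩ := g₁.van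
  obtain ⟨M₂, hM₂⟩ := g₂.van
  obtain ⟨M₃, hM₃⟩ := g₃.van
  refine χ.alt_les (fun m : ℕ => Val (sh Ψ (m : ℤ)) ρ₁) (fun m : ℕ => Val (sh Ψ (m : ℤ)) ρ₂)
    (fun m : ℕ => Val (sh Ψ (m : ℤ)) ρ₃) (fun m => valMap (Ψ := sh Ψ (m : ℤ)) h₁)
    (fun m => valMap (Ψ := sh Ψ (m : ℤ)) h₂)
    (fun m => dl (Ψ := Ψ) h₃ (m : ℤ) ((m + 1 : ℕ) : ℤ) (by push_cast; ring))
    (fun m => valNat ρ₁ (shF F (m : ℤ))) (fun m => valNat ρ₂ (shF F (m : ℤ)))
    (fun m => valNat ρ₃ (shF F (m : ℤ))) ?_ ?_ ?_ ?_ ?_ ?_ ?_ (max M₁ (max M₂ M₃)) ?_ ?_ ?_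
  · intro n x
    exact (congrArg (fun t => t.hom x) ((shF F (n : ℤ)).naturality T.mor₁)).symm
  · intro n x
    exact (congrArg (fun t => t.hom x) ((shF F (n : ℤ)).naturality T.mor₂)).symm
  · intro n x
    exact dl_shF F h₃ _ _ _ x
  · have := g₃.neg (-1) (by lia)
    have hex := exact₁ (Ψ := Ψ) hT h₁ h₃ (-1) ((0 : ℕ) : ℤ) (by simp)
    rw [injective_iff_map_eq_zero]
    intro x hx
    obtain ⟨y, rfl⟩ := (hex x).1 hx
    rw [Subsingleton.elim y 0, map_zero]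
  · exact fun n => exact₂ hT h₁ h₂ (n : ℤ)
  · exact fun n => exact₃ hT h₂ h₃ _ _ _
  · exact fun n => exact₁ hT h₁ h₃ _ _ _
  · exact fun n hn => hM₁ n (by lia)
  · exact fun n hn => hM₂ n (by lia)
  · exact fun n hn => hM₃ n (by lia)

end triangle

end Groth.Agent.Sga4h.H14.ActEuler
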