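/-
Truncation devissage for the alternating sums of `ActEuler`: for `X` in `D^{[0, N)}` with an action of `Λ`,
`eu X = Σ_{q < N} (-1)^q eu (H^q(X)[0])`.
-/
import Groth.Agent.Sga4h.H14.ActEuler
import Mathlib.Algebra.Homology.DerivedCategory.TStructure
import Mathlib.Algebra.Homology.DerivedCategory.FullyFaithful
import Mathlib.Algebra.Homology.DerivedCategory.HomologySequence
import Mathlib.CategoryTheory.Triangulated.TStructure.TruncLTGE

set_option autoImplicit false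
set_option linter.dupNamespace false

universe w w' v u v' u' w''

open CategoryTheory CategoryTheory.Limits CategoryTheory.Pretriangulated

namespace Groth.Agent.Sga4h.H14.ActTrunc

open Groth.Agent.Sga4h.H925.Inv ActVal ActEuler DerivedCategory

variable {𝒜 : Type u} [Category.{v} 𝒜] [Abelian 𝒜] [HasDerivedCategory.{w'} 𝒜]

/-- `X ↦ H^q(X)[0]`. -/
noncomputable abbrev hs (q : ℤ) : DerivedCategory 𝒜 ⥤ DerivedCategory 𝒜 :=
  homologyFunctor 𝒜 q ⋙ singleFunctor 𝒜 0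

theorem heart_iso {Λ : Type} [CommRing Λ] (X : DerivedCategory 𝒜) [X.IsGE 0] [X.IsLE 0] (ρ : Λ →+* End X) :
    ∃ e : X ≅ (hs 0).obj X, Equi ρ (mapAct (hs 0) ρ) e.hom := by
  obtain ⟨M, ⟨φ⟩⟩ := X.exists_iso_singleFunctor_obj_of_isGE_of_isLE 0
  let κ := singleFunctorCompHomologyFunctorIso 𝒜 0
  let ψ : (homologyFunctor 𝒜 0).obj X ≅ M := (homologyFunctor 𝒜 0).mapIso φ ≪≫ κ.app M
  refine ⟨φ ≪≫ (singleFunctor 𝒜 0).mapIso ψ.symm, fun r => ?_⟩
  obtain ⟨s, hs⟩ := (singleFunctor 𝒜 0).map_surjective (φ.inv ≫ (ρ r : X ⟶ X) ≫ φ.hom)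
  have h1 : (ρ r : X ⟶ X) ≫ φ.hom = φ.hom ≫ (singleFunctor 𝒜 0).map s := by
    rw [hs, φ.hom_inv_id_assoc]
  have h2 : (homologyFunctor 𝒜 0).map (ρ r : X ⟶ X) ≫ ψ.hom = ψ.hom ≫ s := by
    have h3 := congrArg (homologyFunctor 𝒜 0).map h1
    rw [Functor.map_comp, Functor.map_comp] at h3
    have h4 : (homologyFunctor 𝒜 0).map ((singleFunctor 𝒜 0).map s) ≫ κ.hom.app M = κ.hom.app M ≫ s :=
      κ.hom.naturality s
    change _ ≫ (homologyFunctor 𝒜 0).map φ.hom ≫ κ.hom.app M =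
      ((homologyFunctor 𝒜 0).map φ.hom ≫ κ.hom.app M) ≫ s
    rw [← Category.assoc, h3, Category.assoc, h4, Category.assoc]
  have h5 : s ≫ ψ.inv = ψ.inv ≫ (homologyFunctor 𝒜 0).map (ρ r : X ⟶ X) := by
    rw [← cancel_epi ψ.hom, ← Category.assoc, ← h2, Category.assoc, ψ.hom_inv_id, Category.comp_id,
      ψ.hom_inv_id_assoc]
  change (ρ r : X ⟶ X) ≫ φ.hom ≫ (singleFunctor 𝒜 0).map ψ.inv =
    (φ.hom ≫ (singleFunctor 𝒜 0).map ψ.inv) ≫ (singleFunctor 𝒜 0).map ((homologyFunctor 𝒜 0).map (ρ r : X ⟶ X))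
  rw [← Category.assoc, h1, Category.assoc, ← Functor.map_comp, h5, Functor.map_comp, Category.assoc]

section trunc

variable (X : DerivedCategory 𝒜)

theorem isIso_π (q : ℤ) (hq : 1 ≤ q) :
    IsIso ((homologyFunctor 𝒜 q).map ((TStructure.t.truncGEπ 1).app X)) := by
  have hT := TStructure.t.triangleLTGE_distinguished 1 X
  have hLE : (((TStructure.t.triangleLTGE 1).obj X).obj₁).IsLE 0 :=
    inferInstanceAs (TStructure.t.IsLE ((TStructure.t.triangleLTGE 1).obj X).obj₁ (1 - 1))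
  have h1 : Mono ((homologyFunctor 𝒜 q).map ((TStructure.t.triangleLTGE 1).obj X).mor₂) := by
    rw [DerivedCategory.HomologySequence.mono_homologyMap_mor₂_iff _ hT q]
    exact (isZero_of_isLE _ 0 q (by lia)).eq_of_src _ _
  have h2 : Epi ((homologyFunctor 𝒜 q).map ((TStructure.t.triangleLTGE 1).obj X).mor₂) := by
    rw [DerivedCategory.HomologySequence.epi_homologyMap_mor₂_iff _ hT q (q + 1) rfl]
    exact (isZero_of_isLE _ 0 (q + 1) (by lia)).eq_of_tgt _ _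
  exact isIso_of_mono_of_epi ((homologyFunctor 𝒜 q).map ((TStructure.t.triangleLTGE 1).obj X).mor₂)

theorem isIso_ι : IsIso ((homologyFunctor 𝒜 0).map ((TStructure.t.truncLTι 1).app X)) := by
  have hT := TStructure.t.triangleLTGE_distinguished 1 X
  have hGE : (((TStructure.t.triangleLTGE 1).obj X).obj₃).IsGE 1 :=
    inferInstanceAs (TStructure.t.IsGE ((TStructure.t.triangleLTGE 1).obj X).obj₃ 1)
  have h1 : Mono ((homologyFunctor 𝒜 0).map ((TStructure.t.triangleLTGE 1).obj X).mor₁) := by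
    rw [DerivedCategory.HomologySequence.mono_homologyMap_mor₁_iff _ hT (-1) 0 (by lia)]
    exact (isZero_of_isGE _ 1 (-1) (by lia)).eq_of_src _ _
  have h2 : Epi ((homologyFunctor 𝒜 0).map ((TStructure.t.triangleLTGE 1).obj X).mor₁) := by
    rw [DerivedCategory.HomologySequence.epi_homologyMap_mor₁_iff _ hT 0]
    exact (isZero_of_isGE _ 1 0 (by lia)).eq_of_tgt _ _
  exact isIso_of_mono_of_epi ((homologyFunctor 𝒜 0).map ((TStructure.t.triangleLTGE 1).obj X).mor₁)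

end trunc

variable {Λ : Type} [Field Λ] {A : Type w''} [AddCommGroup A] (χ : Inv.{w} Λ A)
  {Ψ : DerivedCategory 𝒜 ⥤ AddCommGrpCat.{w}} [Ψ.Additive] [Ψ.IsHomological] (F : Ψ ⟶ Ψ)

/-- `H^q(X⟦1⟧) ≅ H^{q+1}(X)`. -/
noncomputable def hShift (q : ℤ) :
    shiftFunctor (DerivedCategory 𝒜) (1 : ℤ) ⋙ homologyFunctor 𝒜 q ≅ homologyFunctor 𝒜 (q + 1) :=
  (homologyFunctor 𝒜 0).shiftIso 1 q (q + 1) (by lia)

theorem main (N : ℕ) : ∀ (X : DerivedCategory 𝒜) (ρ : Λ →+* End X) (_ : X.IsGE 0) (_ : X.IsLE ((N : ℤ) - 1))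
    (_ : ∀ q : ℕ, q < N → Good Ψ (mapAct (hs (q : ℤ)) ρ)),
    Good Ψ ρ ∧ eu χ F ρ = ∑ q ∈ Finset.range N, (-1 : ℤ) ^ q • eu χ F (mapAct (hs (q : ℤ)) ρ) := by
  induction N with
  | zero =>
    intro X ρ h0 h1 _
    have h1' : X.IsLE (-1) := by simpa using h1
    have hz : IsZero X := TStructure.t.isZero X (-1) 0 (by lia)
    exact ⟨Good.of_isZero hz, by simp [eu_of_isZero χ F hz]⟩
  | succ N ih =>
    intro X ρ h0 h1 hg
    have hT := TStructure.t.triangleLTGE_distinguished 1 X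
    -- the actions on the triangle
    let ρ₁ := mapAct (TStructure.t.truncLT 1) ρ
    let ρ₃ := mapAct (TStructure.t.truncGE 1) ρ
    have e₁ : Equi ρ₁ ρ ((TStructure.t.truncLTι 1).app X) := fun r => (TStructure.t.truncLTι 1).naturality (ρ r)
    have e₂ : Equi ρ ρ₃ ((TStructure.t.truncGEπ 1).app X) := fun r => (TStructure.t.truncGEπ 1).naturality (ρ r)
    have e₃ : Equi ρ₃ (mapAct (shiftFunctor _ (1 : ℤ)) ρ₁) ((TStructure.t.truncGEδLT 1).app X) :=
      fun r => (TStructure.t.truncGEδLT 1).naturality (ρ r)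
    -- the first term
    have g1 : Good Ψ ρ₁ ∧ eu χ F ρ₁ = eu χ F (mapAct (hs 0) ρ) := by
      have i1 : ((TStructure.t.truncLT 1).obj X).IsGE 0 := inferInstance
      have i2 : ((TStructure.t.truncLT 1).obj X).IsLE 0 :=
        inferInstanceAs (TStructure.t.IsLE ((TStructure.t.truncLT 1).obj X) (1 - 1))
      obtain ⟨a, ha⟩ := heart_iso ((TStructure.t.truncLT 1).obj X) ρ₁
      have := isIso_ι X
      let b : (hs 0).obj ((TStructure.t.truncLT 1).obj X) ≅ (hs 0).obj X :=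
        (singleFunctor 𝒜 0).mapIso (asIso ((homologyFunctor 𝒜 0).map ((TStructure.t.truncLTι 1).app X)))
      have hb : Equi (mapAct (hs 0) ρ₁) (mapAct (hs 0) ρ) b.hom := e₁.map (hs 0)
      have hg0 : Good Ψ (mapAct (hs 0) ρ) := hg 0 (by lia)
      have hab : Equi ρ₁ (mapAct (hs 0) ρ) (a ≪≫ b).hom := ha.comp hb
      have hg1 : Good Ψ ρ₁ := Good.of_iso (a ≪≫ b).symm (Equi.inv _ hab) hg0
      exact ⟨hg1, eu_of_iso χ F (a ≪≫ b) hab hg1⟩
    -- the third term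
    let ρB := mapAct (shiftFunctor (DerivedCategory 𝒜) (1 : ℤ)) ρ₃
    have hBq : ∀ q : ℕ, ∃ e : (hs (q : ℤ)).obj (((TStructure.t.truncGE 1).obj X)⟦(1 : ℤ)⟧) ≅
        (hs ((q + 1 : ℕ) : ℤ)).obj X, Equi (mapAct (hs (q : ℤ)) ρB) (mapAct (hs ((q + 1 : ℕ) : ℤ)) ρ) e.hom := by
      intro q
      have hc : ((q + 1 : ℕ) : ℤ) = (q : ℤ) + 1 := by push_cast; ring
      rw [hc]
      have := isIso_π X ((q : ℤ) + 1) (by lia)
      let b : (hs ((q : ℤ) + 1)).obj X ≅ (hs ((q : ℤ) + 1)).obj ((TStructure.t.truncGE 1).obj X) :=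
        (singleFunctor 𝒜 0).mapIso (asIso ((homologyFunctor 𝒜 ((q : ℤ) + 1)).map ((TStructure.t.truncGEπ 1).app X)))
      have hb : Equi (mapAct (hs ((q : ℤ) + 1)) ρ) (mapAct (hs ((q : ℤ) + 1)) ρ₃) b.hom := e₂.map (hs _)
      let c : (hs (q : ℤ)).obj (((TStructure.t.truncGE 1).obj X)⟦(1 : ℤ)⟧) ≅
          (hs ((q : ℤ) + 1)).obj ((TStructure.t.truncGE 1).obj X) :=
        (singleFunctor 𝒜 0).mapIso ((hShift (q : ℤ)).app _)
      have hc : Equi (mapAct (hs (q : ℤ)) ρB) (mapAct (hs ((q : ℤ) + 1)) ρ₃) c.hom := by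
        intro r
        change (singleFunctor 𝒜 0).map _ ≫ (singleFunctor 𝒜 0).map _ =
          (singleFunctor 𝒜 0).map _ ≫ (singleFunctor 𝒜 0).map _
        rw [← Functor.map_comp, ← Functor.map_comp]
        exact congrArg _ ((hShift (𝒜 := 𝒜) (q : ℤ)).hom.naturality (ρ₃ r))
      exact ⟨c ≪≫ b.symm, hc.comp (Equi.inv b hb)⟩
    have hgB : ∀ q : ℕ, q < N → Good Ψ (mapAct (hs (q : ℤ)) ρB) := by
      intro q hq
      obtain ⟨e, he⟩ := hBq q
      exact Good.of_iso e.symm (Equi.inv e he) (hg (q + 1) (by lia))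
    have i3 : TStructure.t.IsGE ((TStructure.t.truncGE 1).obj X) 1 := inferInstance
    have i4 : TStructure.t.IsLE ((TStructure.t.truncGE 1).obj X) (((N + 1 : ℕ) : ℤ) - 1) := inferInstance
    have i5 : (((TStructure.t.truncGE 1).obj X)⟦(1 : ℤ)⟧).IsGE 0 :=
      TStructure.t.isGE_shift _ 1 1 0 (by lia)
    have i6 : (((TStructure.t.truncGE 1).obj X)⟦(1 : ℤ)⟧).IsLE ((N : ℤ) - 1) :=
      TStructure.t.isLE_shift _ (((N + 1 : ℕ) : ℤ) - 1) 1 ((N : ℤ) - 1) (by push_cast; ring)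
    obtain ⟨gB, hB⟩ := ih _ ρB i5 i6 hgB
    have g3 : Good Ψ ρ₃ := (Good.of_shift gB).1
    have h3 : eu χ F ρ₃ = - eu χ F ρB := eu_of_shift χ F gB
    refine ⟨Good.middle (T := (TStructure.t.triangleLTGE 1).obj X) hT e₁ e₂ g1.1 g3, ?_⟩
    have key : eu χ F ρ = eu χ F ρ₁ + eu χ F ρ₃ :=
      eu_triangle (T := (TStructure.t.triangleLTGE 1).obj X) χ F hT e₁ e₂ e₃ g1.1 g3
    rw [key, g1.2, h3, hB, Finset.sum_range_succ', ← Finset.sum_neg_distrib, add_comm]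
    refine congrArg₂ (· + ·) (Finset.sum_congr rfl fun q hq => ?_) (by simp)
    obtain ⟨e, he⟩ := hBq q
    rw [eu_of_iso χ F e he (hgB q (Finset.mem_range.1 hq)), pow_succ]
    simp

end Groth.Agent.Sga4h.H14.ActTrunc
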