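/-
Euler characteristic form of the Leray spectral sequence for an additive invariant with a natural endomorphism:
`Σ_m (-1)^m χ(Φ(R^m(G'G) X)) = Σ_q (-1)^q Σ_m (-1)^m χ(Φ(R^m G' (R^q G X)))`.
-/
import Groth.Agent.Sga4h.H14.ActTrunc
import Groth.Agent.Etrest.RDer3

set_option autoImplicit false
set_option linter.dupNamespace false

universe w w₁ w₂ w₃ v₁ v₂ v₃ u₁ u₂ u₃ w''

open CategoryTheory CategoryTheory.Limits CategoryTheory.Pretriangulated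

namespace Groth.Agent.Sga4h.H14.ActLeray

open Groth.Agent.Sga4h.H925.Inv ActVal ActEuler ActTrunc DerivedCategory
open Groth.Agent.Etrest Groth.Agent.Etrest.RDer3

section whisker

variable {Λ : Type} [Field Λ] {A : Type w''} [AddCommGroup A] (χ : Inv.{w} Λ A)
variable {C : Type u₁} [Category.{v₁} C] [Preadditive C] {𝒞 : Type u₃} [Category.{v₃} 𝒞] [Preadditive 𝒞]
  (Φ : 𝒞 ⥤ AddCommGrpCat.{w}) [Φ.Additive] (F : Φ ⟶ Φ)

/-- `Φ(P(X))` with its `Λ`-structure. -/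
abbrev EV (P : C ⥤ 𝒞) {X : C} (ρ : Λ →+* End X) : Type w := Val (P ⋙ Φ) ρ

variable {Φ}

/-- The endomorphism of `Φ(P(X))`. -/
abbrev EF (P : C ⥤ 𝒞) [P.Additive] {X : C} (ρ : Λ →+* End X) : EV Φ P ρ →ₗ[Λ] EV Φ P ρ :=
  valNat ρ (Functor.whiskerLeft P F)

variable (Φ) in
/-- Isomorphic functors. -/
def evIso {P P' : C ⥤ 𝒞} [P.Additive] [P'.Additive] (e : P ≅ P') {X : C} (ρ : Λ →+* End X) :
    EV Φ P ρ ≃ₗ[Λ] EV Φ P' ρ :=
  valIso ρ (Functor.isoWhiskerRight e Φ)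

theorem evIso_EF {P P' : C ⥤ 𝒞} [P.Additive] [P'.Additive] (e : P ≅ P') {X : C} (ρ : Λ →+* End X)
    (x : EV Φ P ρ) : evIso Φ e ρ (EF F P ρ x) = EF F P' ρ (evIso Φ e ρ x) :=
  (congrArg (fun t => t.hom x) (F.naturality (e.hom.app X))).symm

end whisker

section leray

variable {Λ : Type} [Field Λ] {A : Type w''} [AddCommGroup A] (χ : Inv.{w} Λ A)
variable {𝒜 : Type u₁} [Category.{v₁} 𝒜] [Abelian 𝒜] [HasDerivedCategory.{w₁} 𝒜] [HasKInj 𝒜] [EnoughInjectives 𝒜]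
  {ℬ : Type u₂} [Category.{v₂} ℬ] [Abelian ℬ] [HasDerivedCategory.{w₂} ℬ] [HasKInj ℬ] [EnoughInjectives ℬ]
  {𝒞 : Type u₃} [Category.{v₃} 𝒞] [Abelian 𝒞] [HasDerivedCategory.{w₃} 𝒞]
  (Φ : 𝒞 ⥤ AddCommGrpCat.{w}) [PreservesFiniteLimits Φ] [PreservesFiniteColimits Φ]
  (F : Φ ⟶ Φ)

instance additive_of_exact : Φ.Additive := Functor.additive_of_preserves_binary_products Φ

section one

variable (G' : ℬ ⥤ 𝒞) [G'.Additive]

/-- The homological functor `K ↦ Φ(H^0(RG'(K)))`. -/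
noncomputable abbrev PsiF : DerivedCategory ℬ ⥤ AddCommGrpCat.{w} := (TR G' ⋙ homologyFunctor 𝒞 0) ⋙ Φ

instance : (PsiF Φ G').IsHomological where
  exact T hT := ((TR G' ⋙ homologyFunctor 𝒞 0).map_distinguished_exact T hT).map Φ

variable {Φ} in
/-- The endomorphism of `PsiF`. -/
noncomputable abbrev PsiE : PsiF Φ G' ⟶ PsiF Φ G' := Functor.whiskerLeft (TR G' ⋙ homologyFunctor 𝒞 0) F

/-- `K ↦ H^0(RG'(K⟦a⟧))` is `K ↦ H^a(RG'(K))`. -/
noncomputable def shTR (a : ℤ) : shiftFunctor (DerivedCategory ℬ) a ⋙ TR G' ⋙ homologyFunctor 𝒞 0 ≅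
    TR G' ⋙ homologyFunctor 𝒞 a :=
  (Functor.associator _ _ _).symm ≪≫ Functor.isoWhiskerRight ((TR G').commShiftIso a) (homologyFunctor 𝒞 0) ≪≫
    Functor.associator _ _ _ ≪≫
    Functor.isoWhiskerLeft (TR G') ((homologyFunctor 𝒞 0).shiftIso a 0 a (by lia))

/-- Values on `M[0]`. -/
noncomputable def shTRsingle (m : ℕ) : singleFunctor ℬ 0 ⋙ shiftFunctor (DerivedCategory ℬ) (m : ℤ) ⋙ TR G' ⋙
    homologyFunctor 𝒞 0 ≅ G'.rightDerived m :=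
  Functor.isoWhiskerLeft (singleFunctor ℬ 0) (shTR G' (m : ℤ)) ≪≫ HTRsingle G' m

variable {M : ℬ} (ρ : Λ →+* End M)

/-- Values on `M[0]`. -/
noncomputable def valSingle (m : ℕ) : Val (sh (PsiF Φ G') (m : ℤ)) (mapAct (singleFunctor ℬ 0) ρ) ≃ₗ[Λ]
    EV Φ (G'.rightDerived m) ρ :=
  evIso (P := singleFunctor ℬ 0 ⋙ shiftFunctor (DerivedCategory ℬ) (m : ℤ) ⋙ TR G' ⋙ homologyFunctor 𝒞 0) Φ
    (shTRsingle G' m) ρ

theorem valSingle_apply (m : ℕ) (x : Val (sh (PsiF Φ G') (m : ℤ)) (mapAct (singleFunctor ℬ 0) ρ)) :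
    valSingle Φ G' ρ m (valNat _ (shF (PsiE F G') (m : ℤ)) x) = EF F (G'.rightDerived m) ρ (valSingle Φ G' ρ m x) :=
  evIso_EF (P := singleFunctor ℬ 0 ⋙ shiftFunctor (DerivedCategory ℬ) (m : ℤ) ⋙ TR G' ⋙ homologyFunctor 𝒞 0) F
    (shTRsingle G' m) ρ x

theorem good_single (hfin : ∀ m, FiniteDimensional Λ (EV Φ (G'.rightDerived m) ρ))
    (hvan : ∃ N : ℕ, ∀ m, N ≤ m → Subsingleton (EV Φ (G'.rightDerived m) ρ)) :
    Good (PsiF Φ G') (mapAct (singleFunctor ℬ 0) ρ) where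
  neg a ha := by
    refine subsingleton_val_of_isZero (Φ.map_isZero ?_)
    exact (isZero_HTRsingle G' M a ha).of_iso ((shTR G' a).app ((singleFunctor ℬ 0).obj M))
  fin m := by
    have := hfin m
    exact Module.Finite.equiv (valSingle Φ G' ρ m).symm
  van := by
    obtain ⟨N, hN⟩ := hvan
    refine ⟨N, fun m hm => ?_⟩
    have := hN m hm
    exact (valSingle Φ G' ρ m).toEquiv.subsingleton

theorem eu_single (hfin : ∀ m, FiniteDimensional Λ (EV Φ (G'.rightDerived m) ρ)) :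
    eu χ (PsiE F G') (mapAct (singleFunctor ℬ 0) ρ) =
      χ.alt (fun m => EV Φ (G'.rightDerived m) ρ) (fun m => EF F (G'.rightDerived m) ρ) :=
  χ.alt_congr _ _ (fun m => valSingle Φ G' ρ m) (fun m x => valSingle_apply Φ F G' ρ m x)

end one

variable (G : 𝒜 ⥤ ℬ) [G.Additive] (G' : ℬ ⥤ 𝒞) [G'.Additive] (G'' : 𝒜 ⥤ 𝒞) [G''.Additive]
  (e : TR G ⋙ TR G' ≅ TR G'') {X : 𝒜} (ρ : Λ →+* End X)

/-- Values on `RG(X[0])`. -/
noncomputable def compIso (m : ℕ) : (singleFunctor 𝒜 0 ⋙ TR G) ⋙ shiftFunctor (DerivedCategory ℬ) (m : ℤ) ⋙ TR G' ⋙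
    homologyFunctor 𝒞 0 ≅ G''.rightDerived m :=
  Functor.isoWhiskerLeft (singleFunctor 𝒜 0 ⋙ TR G) (shTR G' (m : ℤ)) ≪≫
    Functor.isoWhiskerLeft (singleFunctor 𝒜 0) (Functor.isoWhiskerRight e (homologyFunctor 𝒞 (m : ℤ))) ≪≫
    HTRsingle G'' m

/-- Values on `RG(X[0])`. -/
noncomputable def valComp (m : ℕ) : Val (sh (PsiF Φ G') (m : ℤ)) (mapAct (singleFunctor 𝒜 0 ⋙ TR G) ρ) ≃ₗ[Λ]
    EV Φ (G''.rightDerived m) ρ :=
  evIso (P := (singleFunctor 𝒜 0 ⋙ TR G) ⋙ shiftFunctor (DerivedCategory ℬ) (m : ℤ) ⋙ TR G' ⋙ homologyFunctor 𝒞 0) Φ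
    (compIso G G' G'' e m) ρ

theorem valComp_apply (m : ℕ) (x : Val (sh (PsiF Φ G') (m : ℤ)) (mapAct (singleFunctor 𝒜 0 ⋙ TR G) ρ)) :
    valComp Φ G G' G'' e ρ m (valNat _ (shF (PsiE F G') (m : ℤ)) x) =
      EF F (G''.rightDerived m) ρ (valComp Φ G G' G'' e ρ m x) :=
  evIso_EF (P := (singleFunctor 𝒜 0 ⋙ TR G) ⋙ shiftFunctor (DerivedCategory ℬ) (m : ℤ) ⋙ TR G' ⋙ homologyFunctor 𝒞 0) F
    (compIso G G' G'' e m) ρ x

/-- `(H^q(RG(X[0])))[0] ≅ (R^q G X)[0]`, equivariantly. -/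
noncomputable def hsIso (q : ℕ) : (hs (q : ℤ)).obj ((singleFunctor 𝒜 0 ⋙ TR G).obj X) ≅
    (singleFunctor ℬ 0).obj ((G.rightDerived q).obj X) :=
  (singleFunctor ℬ 0).mapIso ((HTRsingle G q).app X)

theorem hsIso_equi (q : ℕ) : Equi (mapAct (hs (q : ℤ)) (mapAct (singleFunctor 𝒜 0 ⋙ TR G) ρ))
    (mapAct (singleFunctor ℬ 0) (mapAct (G.rightDerived q) ρ)) (hsIso G (X := X) q).hom := by
  intro r
  change (singleFunctor ℬ 0).map _ ≫ (singleFunctor ℬ 0).map _ =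
    (singleFunctor ℬ 0).map _ ≫ (singleFunctor ℬ 0).map _
  rw [← Functor.map_comp, ← Functor.map_comp]
  exact congrArg _ ((HTRsingle G q).hom.naturality (ρ r))

include e in
theorem leray (N : ℕ) (hN : ∀ q : ℕ, N ≤ q → IsZero ((G.rightDerived q).obj X))
    (hfin : ∀ q : ℕ, q < N → ∀ m, FiniteDimensional Λ (EV Φ (G'.rightDerived m) (mapAct (G.rightDerived q) ρ)))
    (hvan : ∀ q : ℕ, q < N → ∃ N : ℕ, ∀ m, N ≤ m →
      Subsingleton (EV Φ (G'.rightDerived m) (mapAct (G.rightDerived q) ρ))) :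
    ((∀ m, FiniteDimensional Λ (EV Φ (G''.rightDerived m) ρ)) ∧
      ∃ N : ℕ, ∀ m, N ≤ m → Subsingleton (EV Φ (G''.rightDerived m) ρ)) ∧
    χ.alt (fun m => EV Φ (G''.rightDerived m) ρ) (fun m => EF F (G''.rightDerived m) ρ) =
      ∑ q ∈ Finset.range N, (-1 : ℤ) ^ q •
        χ.alt (fun m => EV Φ (G'.rightDerived m) (mapAct (G.rightDerived q) ρ))
          (fun m => EF F (G'.rightDerived m) (mapAct (G.rightDerived q) ρ)) := by
  have i1 : ((singleFunctor 𝒜 0 ⋙ TR G).obj X).IsGE 0 := TR_isGE G ((singleFunctor 𝒜 0).obj X) 0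
  have i2 : ((singleFunctor 𝒜 0 ⋙ TR G).obj X).IsLE ((N : ℤ) - 1) := by
    rw [isLE_iff]
    intro i hi
    obtain ⟨n, rfl⟩ := Int.eq_ofNat_of_zero_le (a := i) (by lia)
    exact (hN n (by lia)).of_iso ((HTRsingle G n).app X)
  have hg : ∀ q : ℕ, q < N → Good (PsiF Φ G') (mapAct (singleFunctor ℬ 0) (mapAct (G.rightDerived q) ρ)) :=
    fun q hq => good_single Φ G' _ (hfin q hq) (hvan q hq)
  have hg' : ∀ q : ℕ, q < N → Good (PsiF Φ G') (mapAct (hs (q : ℤ)) (mapAct (singleFunctor 𝒜 0 ⋙ TR G) ρ)) :=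
    fun q hq => Good.of_iso (hsIso G (X := X) q).symm (Equi.inv _ (hsIso_equi G ρ q)) (hg q hq)
  obtain ⟨g, h⟩ := main χ (PsiE F G') N _ (mapAct (singleFunctor 𝒜 0 ⋙ TR G) ρ) i1 i2 hg'
  have hf : ∀ m, FiniteDimensional Λ (EV Φ (G''.rightDerived m) ρ) := by
    intro m
    have := g.fin m
    exact Module.Finite.equiv (valComp Φ G G' G'' e ρ m)
  refine ⟨⟨hf, ?_⟩, ?_⟩
  · obtain ⟨N', hN'⟩ := g.van
    refine ⟨N', fun m hm => ?_⟩
    have := hN' m hm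
    exact (valComp Φ G G' G'' e ρ m).symm.toEquiv.subsingleton
  · have h1 : eu χ (PsiE F G') (mapAct (singleFunctor 𝒜 0 ⋙ TR G) ρ) =
        χ.alt (fun m => EV Φ (G''.rightDerived m) ρ) (fun m => EF F (G''.rightDerived m) ρ) :=
      χ.alt_congr _ _ (fun m => valComp Φ G G' G'' e ρ m) (fun m x => valComp_apply Φ F G G' G'' e ρ m x)
    rw [← h1, h]
    refine Finset.sum_congr rfl fun q hq => ?_
    have hq' := Finset.mem_range.1 hq
    rw [eu_of_iso χ (PsiE F G') (hsIso G (X := X) q) (hsIso_equi G ρ q) (hg' q hq'),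
      eu_single χ Φ F G' _ (hfin q hq')]

end leray

end Groth.Agent.Sga4h.H14.ActLeray
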