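/-
The Leray formula of `ActLeray`, for families isomorphic to the values of the derived functors.
-/
import Groth.Agent.Sga4h.H14.ActLeray

set_option autoImplicit false
set_option linter.dupNamespace false

universe w w₁ w₂ w₃ v₁ v₂ v₃ u₁ u₂ u₃ w''

open CategoryTheory CategoryTheory.Limits CategoryTheory.Pretriangulated

namespace Groth.Agent.Sga4h.H14.ActLeray2

open Groth.Agent.Sga4h.H925.Inv ActVal ActEuler ActTrunc ActLeray DerivedCategory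
open Groth.Agent.Etrest Groth.Agent.Etrest.RDer3

variable {Λ : Type} [Field Λ] {A : Type w''} [AddCommGroup A] (χ : Inv.{w} Λ A)
variable {𝒜 : Type u₁} [Category.{v₁} 𝒜] [Abelian 𝒜] [HasDerivedCategory.{w₁} 𝒜] [HasKInj 𝒜] [EnoughInjectives 𝒜]
  {ℬ : Type u₂} [Category.{v₂} ℬ] [Abelian ℬ] [HasDerivedCategory.{w₂} ℬ] [HasKInj ℬ] [EnoughInjectives ℬ]
  {𝒞 : Type u₃} [Category.{v₃} 𝒞] [Abelian 𝒞] [HasDerivedCategory.{w₃} 𝒞]
  (Φ : 𝒞 ⥤ AddCommGrpCat.{w}) [PreservesFiniteLimits Φ] [PreservesFiniteColimits Φ]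
  (F : Φ ⟶ Φ)
  (G : 𝒜 ⥤ ℬ) [G.Additive] (G' : ℬ ⥤ 𝒞) [G'.Additive] (G'' : 𝒜 ⥤ 𝒞) [G''.Additive]
  (e : TR G ⋙ TR G' ≅ TR G'') {X : 𝒜} (ρ : Λ →+* End X)

include e in
theorem leray' (N : ℕ) (hN : ∀ q : ℕ, N ≤ q → IsZero ((G.rightDerived q).obj X))
    (V'' : ℕ → Type w) [∀ m, AddCommGroup (V'' m)] [∀ m, Module Λ (V'' m)] (φ'' : ∀ m, V'' m →ₗ[Λ] V'' m)
    (h'' : ∀ m, ∃ e : EV Φ (G''.rightDerived m) ρ ≃ₗ[Λ] V'' m,
      ∀ x, e (EF F (G''.rightDerived m) ρ x) = φ'' m (e x))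
    (V : ℕ → ℕ → Type w) [∀ q m, AddCommGroup (V q m)] [∀ q m, Module Λ (V q m)]
    (φ : ∀ q m, V q m →ₗ[Λ] V q m)
    (h : ∀ q < N, ∀ m, ∃ e : EV Φ (G'.rightDerived m) (mapAct (G.rightDerived q) ρ) ≃ₗ[Λ] V q m,
      ∀ x, e (EF F (G'.rightDerived m) (mapAct (G.rightDerived q) ρ) x) = φ q m (e x))
    (hfin : ∀ q < N, ∀ m, FiniteDimensional Λ (V q m))
    (hvan : ∀ q < N, ∃ N : ℕ, ∀ m, N ≤ m → Subsingleton (V q m)) :
    ((∀ m, FiniteDimensional Λ (V'' m)) ∧ ∃ N : ℕ, ∀ m, N ≤ m → Subsingleton (V'' m)) ∧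
    χ.alt V'' φ'' = ∑ q ∈ Finset.range N, (-1 : ℤ) ^ q • χ.alt (V q) (φ q) := by
  obtain ⟨⟨h1, h2⟩, h3⟩ := leray χ Φ F G G' G'' e ρ N hN
    (fun q hq m => by
      obtain ⟨e, -⟩ := h q hq m
      have := hfin q hq m
      exact Module.Finite.equiv e.symm)
    (fun q hq => by
      obtain ⟨M, hM⟩ := hvan q hq
      refine ⟨M, fun m hm => ?_⟩
      obtain ⟨e, -⟩ := h q hq m
      have := hM m hm
      exact e.toEquiv.subsingleton)
  have hfin'' : ∀ m, FiniteDimensional Λ (V'' m) := by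
    intro m
    obtain ⟨e, -⟩ := h'' m
    have := h1 m
    exact Module.Finite.equiv e
  refine ⟨⟨hfin'', ?_⟩, ?_⟩
  · obtain ⟨M, hM⟩ := h2
    refine ⟨M, fun m hm => ?_⟩
    obtain ⟨e, -⟩ := h'' m
    have := hM m hm
    exact e.symm.toEquiv.subsingleton
  · choose e'' he'' using h''
    rw [← χ.alt_congr _ _ e'' he'', h3]
    refine Finset.sum_congr rfl fun q hq => congrArg _ ?_
    have hq' := Finset.mem_range.1 hq
    choose e' he' using h q hq'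
    have := hfin q hq'
    exact χ.alt_congr _ _ e' he'

end Groth.Agent.Sga4h.H14.ActLeray2
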