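import Groth.Agent.Sga4h.H14.GlobPhi
import Groth.Agent.Sga4h.H14.ActLeray2
import Groth.Agent.Sga4h.H925.Defs
import Groth.Agent.Sga4h.H923.DevDef
import Groth.Agent.Sga4h.LPull
import Groth.Agent.Etrest.DEtPush

/-!
# The Leray formula for the global side of the trace formula
-/

set_option autoImplicit false
set_option linter.dupNamespace false

universe u w

open CategoryTheory CategoryTheory.Limits AlgebraicGeometry Opposite

attribute [local instance] HasDerivedCategory.standard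

namespace Groth.Agent.Sga4h.H14.Glob

open Groth.Agent.Sga4h.H925.Inv Groth.Agent.Sga4h.H925.Defs Groth.Agent.Sga4h.H923.DevDef
open ActVal ActEuler ActTrunc ActLeray ActLeray2 GlobPhi
open Groth.Agent.Etrest Groth.Agent.Etrest.RDer3 Groth.Agent.Etrest.DEtPush

/-- `R(f ≫ g)_* = Rg_* Rf_*`. -/
noncomputable def pushDComp {X Y Z : Scheme.{u}} {f : X ⟶ Y} {g : Y ⟶ Z} {k : X ⟶ Z} (w : f ≫ g = k) :
    pushD f ⋙ pushD g ≅ pushD k :=
  Adjunction.rightAdjointUniq ((dPullPush g).comp (dPullPush f))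
    ((dPullPush k).ofNatIsoLeft (LPull.Lcomp w).symm)

variable {k : Type u} [Field k] (K : Type u) [Field K] [Algebra k K]
  {Λ : Type} [Field Λ]

instance additive_Phi : (Phi (k := k) K).Additive :=
  inferInstanceAs ((EtCoh.pull (FinFr.extπ K (𝟙 _)) ⋙ EtCoh.HF _ 0).Additive)

/-- `Φ(R^m c_* L) = H^0(Spec k ×_k K, R^m c_* L)`. -/
noncomputable def evHK {S : Scheme.{u}} (c : S ⟶ Spec (CommRingCat.of k)) (L : EtLam.Sheaf Λ S) (m : ℕ) :
    EV (Phi (k := k) K) ((EtCoh.push c).rightDerived m) L.act ≃ₗ[Λ] HK K (𝟙 _) (rpush c m L) 0 where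
  toFun x := x
  invFun x := x
  left_inv _ := rfl
  right_inv _ := rfl
  map_add' _ _ := rfl
  map_smul' _ _ := rfl

variable [Fintype k] [Algebra.IsAlgebraic k K] [Fact FinFr.PullExact.{u}]

theorem evHK_frob {S : Scheme.{u}} (c : S ⟶ Spec (CommRingCat.of k)) (L : EtLam.Sheaf Λ S) (m : ℕ)
    (x : EV (Phi (k := k) K) ((EtCoh.push c).rightDerived m) L.act) :
    evHK K c L m (EF (PhiG K (FinFr.arith k K).symm) ((EtCoh.push c).rightDerived m) L.act x) =
      frobK K (𝟙 _) (rpush c m L) 0 (evHK K c L m x) := rfl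

/-- The edge isomorphism `H^0(Spec k ×_k K, R^m b_* L) ≅ H^m(P_K, L)` compatible with Frobenius (proper base
change for `Spec K ⟶ Spec k`). -/
def Edge {P : Scheme.{u}} (b : P ⟶ Spec (CommRingCat.of k)) (L : EtLam.Sheaf Λ P) : Prop :=
  ∀ m : ℕ, ∃ e : HK K (𝟙 _) (rpush b m L) 0 ≃ₗ[Λ] HK K b L m,
    ∀ x, e (frobK K (𝟙 _) (rpush b m L) 0 x) = frobK K b L m (e x)

/-- Finiteness and vanishing in high degrees. -/
def FinVan {P : Scheme.{u}} (b : P ⟶ Spec (CommRingCat.of k)) (L : EtLam.Sheaf Λ P) : Prop :=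
  (∀ m, FiniteDimensional Λ (HK K b L m)) ∧ ∃ N : ℕ, ∀ m, N ≤ m → Subsingleton (HK K b L m)

variable {K} in
/-- `H^m(S_K, L)` in terms of `Φ`. -/
theorem exists_equiv {S : Scheme.{u}} {c : S ⟶ Spec (CommRingCat.of k)} {L : EtLam.Sheaf Λ S}
    (h : Edge K c L) (m : ℕ) :
    ∃ e : EV (Phi (k := k) K) ((EtCoh.push c).rightDerived m) L.act ≃ₗ[Λ] HK K c L m,
      ∀ x, e (EF (PhiG K (FinFr.arith k K).symm) ((EtCoh.push c).rightDerived m) L.act x) =
        frobK K c L m (e x) := by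
  obtain ⟨e, he⟩ := h m
  exact ⟨(evHK K c L m).trans e, fun x => he (evHK K c L m x)⟩

variable [IsSepClosed K]

/-- (G3): the Leray formula for the global side. -/
theorem glob_leray {A : Type w} [AddCommGroup A] (χ : Inv.{u + 1} Λ A) {P S : Scheme.{u}}
    (b : P ⟶ Spec (CommRingCat.of k)) (c : S ⟶ Spec (CommRingCat.of k)) (f : P ⟶ S) (w : f ≫ c = b)
    (L : EtLam.Sheaf Λ P) (N : ℕ) (hN : ∀ q : ℕ, N ≤ q → IsZero ((EtCoh.Rpush f q).obj L.carrier))
    (hb : Edge K b L) (hc : ∀ q < N, Edge K c (rpush f q L)) (hf : ∀ q < N, FinVan K c (rpush f q L)) :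
    FinVan K b L ∧
    glob K χ b L = ∑ q ∈ Finset.range N, (-1 : ℤ) ^ q • glob K χ c (rpush f q L) :=
  leray' χ (Phi (k := k) K) (PhiG K (FinFr.arith k K).symm) (EtCoh.push f) (EtCoh.push c)
    (EtCoh.push b) (pushDComp w) (X := L.carrier) L.act N hN
    (fun m => HK K b L m) (fun m => frobK K b L m) (fun m => exists_equiv hb m)
    (fun q m => HK K c (rpush f q L) m) (fun q m => frobK K c (rpush f q L) m)
    (fun q hq m => exists_equiv (hc q hq) m) (fun q hq => (hf q hq).1) (fun q hq => (hf q hq).2)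

end Groth.Agent.Sga4h.H14.Glob
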