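import Groth.Agent.Sga4h.H14.ActLeray
import Groth.Agent.Etrest.SHPoint
import Groth.Agent.Etrest.IsoInv
import Groth.Prelude.Def_FinFr
import Mathlib.CategoryTheory.Preadditive.LeftExact
import Mathlib.Algebra.Homology.DerivedCategory.Ext.ExactSequences

/-!
# The exact functor `Φ = H^0(Spec k ×_k K, π⁻¹ -)` on sheaves over `Spec k` and its Galois action
-/

set_option autoImplicit false
set_option linter.dupNamespace false

universe u

open CategoryTheory CategoryTheory.Limits AlgebraicGeometry Opposite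

namespace Groth.Agent.Sga4h.H14.GlobPhi

section exactness

instance additive_HF (X : Scheme.{u}) (n : ℕ) : (EtCoh.HF X n).Additive :=
  inferInstanceAs (Sheaf.functorH _ n).Additive

theorem HF_map (X : Scheme.{u}) (n : ℕ) {F G : EtCoh.Ab X} (f : F ⟶ G) (x : EtCoh.H X F n) :
    ((EtCoh.HF X n).map f).hom x = Abelian.Ext.comp x (Abelian.Ext.mk₀ f) (add_zero n) :=
  Sheaf.H.map_apply _ _

/-- `H^0` is exact if `H^1` vanishes. -/
theorem shortExact_HF (X : Scheme.{u}) (h : ∀ F : EtCoh.Ab X, Subsingleton (EtCoh.H X F 1))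
    (S : ShortComplex (EtCoh.Ab X)) (hS : S.ShortExact) : (S.map (EtCoh.HF X 0)).ShortExact where
  exact := by
    rw [ShortComplex.ab_exact_iff]
    intro x hx
    have hx' : Abelian.Ext.comp (show EtCoh.H X S.X₂ 0 from x) (Abelian.Ext.mk₀ S.g) (add_zero 0) = 0 := by
      rw [← HF_map]; exact hx
    obtain ⟨y, hy⟩ := Abelian.Ext.covariant_sequence_exact₂ _ hS _ hx'
    exact ⟨y, (HF_map X 0 S.f y).trans hy⟩
  mono_f := by
    have := hS.mono_f
    rw [AddCommGrpCat.mono_iff_injective]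
    intro x y hxy
    exact Abelian.Ext.postcomp_mk₀_injective_of_mono _ S.f
      ((HF_map X 0 S.f x).symm.trans (hxy.trans (HF_map X 0 S.f y)))
  epi_g := by
    rw [AddCommGrpCat.epi_iff_surjective]
    intro x
    have := h S.X₁
    obtain ⟨y, hy⟩ := Abelian.Ext.covariant_sequence_exact₃ _ hS (show EtCoh.H X S.X₃ 0 from x) (zero_add 1)
      (Subsingleton.elim (α := EtCoh.H X S.X₁ 1) _ _)
    exact ⟨y, (HF_map X 0 S.g y).trans hy⟩

theorem exact_HF (X : Scheme.{u}) (h : ∀ F : EtCoh.Ab X, Subsingleton (EtCoh.H X F 1)) :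
    PreservesFiniteLimits (EtCoh.HF X 0) ∧ PreservesFiniteColimits (EtCoh.HF X 0) := by
  have := (Functor.exact_tfae (EtCoh.HF X 0)).out 0 3
  exact this.1 (shortExact_HF X h)

variable {k : Type u} [Field k] (K : Type u) [Field K] [Algebra k K]

/-- `Spec k ×_k Spec K = Spec K`. -/
instance isIso_extStr_id : IsIso (FinFr.extStr K (𝟙 (Spec (CommRingCat.of k)))) :=
  inferInstanceAs (IsIso (pullback.snd (𝟙 _) _))

theorem subsingleton_H_ext [IsSepClosed K] (F : EtCoh.Ab (FinFr.ext K (𝟙 (Spec (CommRingCat.of k))))) :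
    Subsingleton (EtCoh.H _ F 1) := by
  let f := FinFr.extStr K (𝟙 (Spec (CommRingCat.of k)))
  let G := (EtCoh.pull f).objPreimage F
  let e : (EtCoh.pull f).obj G ≅ F := (EtCoh.pull f).objObjPreimageIso F
  have := Groth.Agent.Etrest.SHPoint.subsingleton_H_of_sepClosed K G 1 one_pos
  exact ((Groth.Agent.Etrest.IsoInv.HIso f G 1).trans
    (Groth.Agent.Etrest.IsoInv.HCongr e 1)).symm.toEquiv.subsingleton

/-- `Φ = H^0(Spec k ×_k K, π⁻¹ -)`. -/
noncomputable def Phi : EtCoh.Ab (Spec (CommRingCat.of k)) ⥤ AddCommGrpCat.{u + 1} :=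
  EtCoh.pull (FinFr.extπ K (𝟙 _)) ⋙ EtCoh.HF _ 0

instance preservesFiniteLimits_Phi [IsSepClosed K] [Fact FinFr.PullExact.{u}] :
    PreservesFiniteLimits (Phi (k := k) K) := by
  have := FinFr.pullExact_out (FinFr.extπ K (𝟙 (Spec (CommRingCat.of k))))
  have := (exact_HF _ (subsingleton_H_ext (k := k) K)).1
  exact comp_preservesFiniteLimits _ _

instance preservesFiniteColimits_Phi [IsSepClosed K] : PreservesFiniteColimits (Phi (k := k) K) := by
  have : PreservesColimits (EtCoh.pull (FinFr.extπ K (𝟙 (Spec (CommRingCat.of k))))) :=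
    (EtCoh.pullPushAdj _).leftAdjoint_preservesColimits
  have := (exact_HF _ (subsingleton_H_ext (k := k) K)).2
  exact comp_preservesFiniteColimits _ _

theorem galH_natural [Fact FinFr.PullExact.{u}] {X₀ : Scheme.{u}} (a : X₀ ⟶ Spec (CommRingCat.of k))
    (σ : K ≃ₐ[k] K) {G G' : EtCoh.Ab X₀} (φ : G ⟶ G') (n : ℕ)
    (x : EtCoh.H (FinFr.ext K a) ((EtCoh.pull (FinFr.extπ K a)).obj G) n) :
    FinFr.galH a σ G' n (Sheaf.H.map ((EtCoh.pull (FinFr.extπ K a)).map φ) n x) =
      Sheaf.H.map ((EtCoh.pull (FinFr.extπ K a)).map φ) n (FinFr.galH a σ G n x) := by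
  have := FinFr.pullExact_out (FinFr.galAct a σ)
  exact EtCore.HpullVia_natural _ _ _ _ φ n x

/-- The action of `σ` on `Φ`. -/
noncomputable def PhiG [Fact FinFr.PullExact.{u}] (σ : K ≃ₐ[k] K) : Phi (k := k) K ⟶ Phi (k := k) K where
  app G := AddCommGrpCat.ofHom (FinFr.galH (𝟙 _) σ G 0)
  naturality _ _ φ := AddCommGrpCat.hom_ext (AddMonoidHom.ext fun x => galH_natural K (𝟙 _) σ φ 0 x)

end exactness

end Groth.Agent.Sga4h.H14.GlobPhi
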